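import Groth.Agent.DecayLib.Basic
import Mathlib.RingTheory.AdicCompletion.Algebra
import Mathlib.RingTheory.Noetherian.Basic
import Mathlib.LinearAlgebra.TensorProduct.Tower

/-! Universal property of decaying functions with values in the completion. -/

set_option autoImplicit false

universe u v w w'

open W4c5adicflatcompl TensorProduct

namespace DecayLib

variable {A : Type u} [CommRing A] (I : Ideal A)

theorem isAdicComplete_of_pow_smul_eq_bot {M : Type w} [AddCommGroup M] [Module A M] (n : ℕ)
    (h : (I ^ n • ⊤ : Submodule A M) = ⊥) : IsAdicComplete I M where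
  haus' x hx := by
    have := SModEq.sub_mem.1 (hx n)
    rwa [h, sub_zero, Submodule.mem_bot] at this
  prec' f hf := ⟨f n, fun m => SModEq.sub_mem.2 (by
    rcases le_total m n with hmn | hmn
    · exact SModEq.sub_mem.1 (hf hmn)
    · have := SModEq.sub_mem.1 (hf hmn)
      rw [h, Submodule.mem_bot, sub_eq_zero] at this
      rw [this, sub_self]
      exact zero_mem _)⟩

theorem val_eq_zero_iff {M : Type w} [AddCommGroup M] [Module A M] (n : ℕ) (x : M) :
    (AdicCompletion.of I M x).val n = 0 ↔ x ∈ (I ^ n • ⊤ : Submodule A M) :=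
  Submodule.Quotient.mk_eq_zero _

/-- A map bijective modulo all powers of the ideal induces a bijection on completions. -/
theorem map_bijective {X : Type w} {Y : Type w'} [AddCommGroup X] [Module A X] [AddCommGroup Y] [Module A Y]
    (L : X →ₗ[A] Y)
    (hinj : ∀ n x, L x ∈ (I ^ n • ⊤ : Submodule A Y) → x ∈ (I ^ n • ⊤ : Submodule A X))
    (hsurj : ∀ n y, ∃ x, L x - y ∈ (I ^ n • ⊤ : Submodule A Y)) :
    Function.Bijective (AdicCompletion.map I L) := by
  constructor
  · rw [injective_iff_map_eq_zero]
    intro ξ h
    refine AdicCompletion.ext fun n => ?_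
    obtain ⟨x, hx⟩ := Submodule.Quotient.mk_surjective _ (ξ.val n)
    have h1 : (AdicCompletion.map I L ξ).val n = 0 := by rw [h, AdicCompletion.val_zero_apply]
    rw [AdicCompletion.map_val_apply, ← hx] at h1
    rw [AdicCompletion.val_zero_apply, ← hx, Submodule.Quotient.mk_eq_zero]
    exact hinj n x ((Submodule.Quotient.mk_eq_zero _).1 h1)
  · intro η
    have key : ∀ n, ∃ x, Submodule.Quotient.mk (L x) = η.val n := fun n => by
      obtain ⟨y, hy⟩ := Submodule.Quotient.mk_surjective _ (η.val n)
      obtain ⟨x, hx⟩ := hsurj n y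
      exact ⟨x, ((Submodule.Quotient.eq _).2 hx).trans hy⟩
    choose x hx using key
    let ξ : AdicCompletion I X := ⟨fun n => Submodule.Quotient.mk (x n), fun {m n} hmn => by
      show Submodule.Quotient.mk (x n) = Submodule.Quotient.mk (x m)
      rw [Submodule.Quotient.eq]
      refine hinj m _ ?_
      rw [map_sub, ← Submodule.Quotient.eq, hx m]
      have := η.2 hmn
      rw [← hx n] at this
      exact this⟩
    refine ⟨ξ, AdicCompletion.ext fun n => ?_⟩
    rw [AdicCompletion.map_val_apply]
    exact hx n

variable (Z : Type v) (M : Type w) [AddCommGroup M] [Module A M]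

/-- `single` as a linear map. -/
noncomputable def singleL [DecidableEq Z] (z : Z) : M →ₗ[A] decaying I Z M where
  toFun := single I z
  map_add' a b := Subtype.ext (by simp [Pi.single_add])
  map_smul' a b := Subtype.ext (by simp [Pi.single_smul])

@[simp] theorem singleL_apply [DecidableEq Z] (z : Z) (m : M) : singleL I Z M z m = single I z m := rfl

section

variable [IsNoetherianRing A]

theorem isAdicComplete_completion (M : Type w) [AddCommGroup M] [Module A M] :
    IsAdicComplete I (AdicCompletion I M) :=
  AdicCompletion.isAdicComplete (IsNoetherian.noetherian I)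

theorem exists_approx (c : AdicCompletion I A) (n : ℕ) :
    ∃ a : A, c - a • 1 ∈ (I ^ n • ⊤ : Submodule A (AdicCompletion I A)) := by
  obtain ⟨a, ha⟩ := Submodule.Quotient.mk_surjective _ (c.val n)
  have := isAdicComplete_completion I A
  refine ⟨a, mem_pow_smul_top_of_val_eq_zero I n _ ?_⟩
  rw [AdicCompletion.val_sub_apply, AdicCompletion.val_smul_apply, AdicCompletion.val_one, ← ha]
  rw [sub_eq_zero]
  show Submodule.Quotient.mk a = a • Submodule.Quotient.mk (1 : A)
  rw [← Submodule.Quotient.mk_smul]
  simp

/-- Finite combinations of the unit functions are dense. -/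
theorem exists_finsupp_sub_mem [DecidableEq Z] (g : decaying I Z (AdicCompletion I A)) (n : ℕ) :
    ∃ c : Z →₀ A, g - Finsupp.linearCombination A (fun z => single I z (1 : AdicCompletion I A)) c ∈
      (I ^ n • ⊤ : Submodule A (decaying I Z (AdicCompletion I A))) := by
  have := isAdicComplete_completion I A
  choose a ha using fun z => exists_approx I ((g : Z → AdicCompletion I A) z) n
  refine ⟨∑ z ∈ bigSet I g n, Finsupp.single z (a z), ?_⟩
  rw [map_sum, ← sub_add_sub_cancel g (∑ z ∈ bigSet I g n, single I z ((g : Z → AdicCompletion I A) z))]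
  refine add_mem (sub_sum_single_mem I (IsNoetherian.noetherian I) g n _ fun z hz => notMem_bigSet I g n hz) ?_
  rw [← Finset.sum_sub_distrib]
  refine Submodule.sum_mem _ fun z _ => ?_
  rw [Finsupp.linearCombination_single, ← singleL_apply, ← singleL_apply, ← map_smul, ← map_sub]
  have h := Submodule.mem_map_of_mem (f := singleL I Z (AdicCompletion I A) z) (ha z)
  rw [Submodule.map_smul''] at h
  exact Submodule.smul_mono le_rfl le_top h

theorem map_ext [DecidableEq Z] [IsHausdorff I M] {φ ψ : decaying I Z (AdicCompletion I A) →ₗ[A] M}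
    (h : ∀ z, φ (single I z 1) = ψ (single I z 1)) : φ = ψ := by
  refine LinearMap.ext fun g => sub_eq_zero.1 (eq_zero_of_forall_mem I fun n => ?_)
  obtain ⟨c, hc⟩ := exists_finsupp_sub_mem I Z g n
  have h0 : φ (Finsupp.linearCombination A (fun z => single I z (1 : AdicCompletion I A)) c) =
      ψ (Finsupp.linearCombination A (fun z => single I z (1 : AdicCompletion I A)) c) := by
    simp only [Finsupp.linearCombination_apply, Finsupp.sum, map_sum, map_smul, h]
  have h1 := Submodule.mem_map_of_mem (f := φ - ψ) hc
  rw [Submodule.map_smul''] at h1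
  have h2 := Submodule.smul_mono le_rfl le_top h1
  rw [LinearMap.sub_apply, map_sub, map_sub, h0, sub_sub_sub_cancel_right] at h2
  exact h2

theorem exists_map_single [DecidableEq Z] [IsAdicComplete I M] (f : Z → M) :
    ∃ φ : decaying I Z (AdicCompletion I A) →ₗ[A] M, ∀ z, φ (single I z 1) = f z := by
  have := isAdicComplete_completion I A
  refine ⟨((AdicCompletion.ofLinearEquiv I M).symm.toLinearMap ∘ₗ
    (AdicCompletion.map I (Finsupp.linearCombination A f)).restrictScalars A) ∘ₗ
      (completionEquiv I (Z := Z) (M := A)).symm.toLinearMap, fun z => ?_⟩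
  have h1 : (completionEquiv I (Z := Z) (M := A)).symm (single I z (1 : AdicCompletion I A)) =
      AdicCompletion.of I (Z →₀ A) (Finsupp.single z 1) := by
    rw [LinearEquiv.symm_apply_eq, completionEquiv_of_single]
    rfl
  simp only [LinearMap.coe_comp, LinearEquiv.coe_coe, Function.comp_apply, LinearMap.coe_restrictScalars, h1,
    AdicCompletion.map_of, Finsupp.linearCombination_single, one_smul, AdicCompletion.ofLinearEquiv_symm_of]

end

end DecayLib
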