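import Groth.Prelude.Def_W4c5adicflatcomplDec
import Mathlib.RingTheory.AdicCompletion.Completeness
import Mathlib.RingTheory.AdicCompletion.Functoriality
import Mathlib.RingTheory.Finiteness.Ideal
import Mathlib.LinearAlgebra.Finsupp.LinearCombination

/-! Modules of decaying functions. -/

set_option autoImplicit false

universe u v w w'

open W4c5adicflatcompl

namespace DecayLib

variable {A : Type u} [CommRing A] (I : Ideal A) {Z : Type v} {M : Type w} [AddCommGroup M] [Module A M]

theorem mem_of_smul_top (J : Ideal A) {f : decaying I Z M} (hf : f ∈ (J • ⊤ : Submodule A (decaying I Z M)))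
    (z : Z) : (f : Z → M) z ∈ (J • ⊤ : Submodule A M) := by
  have h := Submodule.mem_map_of_mem (f := (LinearMap.proj z).comp (decaying I Z M).subtype) hf
  rw [Submodule.map_smul''] at h
  exact Submodule.smul_mono le_rfl le_top h

theorem eq_zero_of_forall_mem [IsHausdorff I M] {x : M} (h : ∀ n, x ∈ (I ^ n • ⊤ : Submodule A M)) : x = 0 :=
  IsHausdorff.haus' x fun n => SModEq.sub_mem.2 (by rw [sub_zero]; exact h n)

theorem pow_anti {m n : ℕ} (h : m ≤ n) : (I ^ n • ⊤ : Submodule A M) ≤ I ^ m • ⊤ :=
  Submodule.smul_mono (Ideal.pow_le_pow_right h) le_rfl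

/-- A decaying function with values in a power of the ideal lies in that power times the module. -/
theorem mem_pow_smul_top [IsHausdorff I M] (hI : I.FG) (n : ℕ) (f : decaying I Z M)
    (hf : ∀ z, (f : Z → M) z ∈ (I ^ n • ⊤ : Submodule A M)) :
    f ∈ (I ^ n • ⊤ : Submodule A (decaying I Z M)) := by
  classical
  obtain ⟨r, a, ha⟩ := Submodule.fg_iff_exists_fin_generating_family.1 (Ideal.FG.pow hI (n := n))
  have key : ∀ z, ∃ g : Fin r → M, (∑ i, a i • g i) = (f : Z → M) z ∧
      ∀ m, (f : Z → M) z ∈ (I ^ (n + m) • ⊤ : Submodule A M) → ∀ i, g i ∈ (I ^ m • ⊤ : Submodule A M) := by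
    intro z
    by_cases h0 : (f : Z → M) z = 0
    · exact ⟨0, by simp [h0], fun m _ i => zero_mem _⟩
    · have hex : ∃ m, (f : Z → M) z ∉ (I ^ (n + m) • ⊤ : Submodule A M) := by
        by_contra! h
        exact h0 (eq_zero_of_forall_mem I fun k => pow_anti I (Nat.le_add_left k n) (h k))
      let m₀ := Nat.find hex
      have hm : m₀ ≠ 0 := fun e => Nat.find_spec hex (by
        rw [show Nat.find hex = 0 from e, add_zero]; exact hf z)
      have hmem : (f : Z → M) z ∈ (I ^ (n + (m₀ - 1)) • ⊤ : Submodule A M) :=
        not_not.1 (Nat.find_min hex (Nat.sub_lt (Nat.pos_of_ne_zero hm) one_pos))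
      rw [pow_add, Submodule.mul_smul] at hmem
      have hsub : I ^ n • (I ^ (m₀ - 1) • ⊤ : Submodule A M) ≤
          LinearMap.range ((∑ i, a i • LinearMap.proj i : (Fin r → M) →ₗ[A] M).comp
            ((LinearMap.pi fun i => ((I ^ (m₀ - 1) • ⊤ : Submodule A M).subtype).comp (LinearMap.proj i)) :
              (Fin r → ((I ^ (m₀ - 1) • ⊤ : Submodule A M) : Submodule A M)) →ₗ[A] Fin r → M)) := by
        rw [Submodule.smul_le]
        intro c hc x hx
        rw [← ha] at hc
        induction hc using Submodule.span_induction with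
        | mem c hc =>
          obtain ⟨i, rfl⟩ := hc
          refine ⟨Pi.single i ⟨x, hx⟩, ?_⟩
          simp [Pi.single_apply, apply_ite]
        | zero => rw [zero_smul]; exact zero_mem _
        | add b c _ _ hb hc => rw [add_smul]; exact add_mem hb hc
        | smul b c _ hc => rw [smul_eq_mul, mul_smul]; exact Submodule.smul_mem _ b hc
      obtain ⟨g, hg⟩ := hsub hmem
      refine ⟨fun i => (g i : M), by simpa using hg, fun m hfm i => ?_⟩
      have : m ≤ m₀ - 1 := by
        by_contra hlt
        exact Nat.find_spec hex (pow_anti I (by omega) hfm)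
      exact pow_anti I this (g i).2
  choose g hg hgm using key
  let G : Fin r → decaying I Z M := fun i => ⟨fun z => g z i, fun m => (f.2 (n + m)).subset fun z hz h =>
    hz (hgm z m h i)⟩
  have : f = ∑ i, a i • G i := Subtype.ext (funext fun z => by
    simp only [Submodule.coe_sum, Finset.sum_apply, SetLike.val_smul, Pi.smul_apply]
    exact (hg z).symm)
  rw [this]
  exact Submodule.sum_mem _ fun i _ =>
    Submodule.smul_mem_smul (ha ▸ Submodule.subset_span ⟨i, rfl⟩) Submodule.mem_top

theorem isHausdorff [IsHausdorff I M] : IsHausdorff I (decaying I Z M) :=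
  ⟨fun f hf => Subtype.ext (funext fun z => eq_zero_of_forall_mem I fun n =>
    mem_of_smul_top I _ (by simpa using SModEq.sub_mem.1 (hf n)) z)⟩

theorem isAdicComplete [IsAdicComplete I M] (hI : I.FG) : IsAdicComplete I (decaying I Z M) :=
  { isHausdorff I with
    prec' := fun f hf => by
      have hc : ∀ z, ∃ L : M, ∀ n, (f n : Z → M) z - L ∈ (I ^ n • ⊤ : Submodule A M) := fun z => by
        obtain ⟨L, hL⟩ := IsPrecomplete.prec (I := I) (M := M) inferInstance (f := fun n => (f n : Z → M) z)
          fun {m n} h => SModEq.sub_mem.2 (mem_of_smul_top I _ (SModEq.sub_mem.1 (hf h)) z)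
        exact ⟨L, fun n => SModEq.sub_mem.1 (hL n)⟩
      choose L hL using hc
      have hLd : L ∈ decaying I Z M := fun n => ((f n).2 n).subset fun z hz h => hz (by
        have := sub_mem h (hL z n); rwa [sub_sub_cancel] at this)
      refine ⟨⟨L, hLd⟩, fun n => SModEq.sub_mem.2 ?_⟩
      exact mem_pow_smul_top I hI n _ fun z => hL z n }

/-- The set where a decaying function is not small. -/
noncomputable def bigSet (f : decaying I Z M) (n : ℕ) : Finset Z := (f.2 n).toFinset

theorem notMem_bigSet (f : decaying I Z M) (n : ℕ) {z : Z} (hz : z ∉ bigSet I f n) :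
    (f : Z → M) z ∈ (I ^ n • ⊤ : Submodule A M) := by
  rw [bigSet, Set.Finite.mem_toFinset] at hz
  exact not_not.1 hz

/-- Decaying functions are approximated by finite sums of functions with one value. -/
theorem sub_sum_single_mem [DecidableEq Z] [IsHausdorff I M] (hI : I.FG) (f : decaying I Z M) (n : ℕ)
    (S : Finset Z) (hS : ∀ z, z ∉ S → (f : Z → M) z ∈ (I ^ n • ⊤ : Submodule A M)) :
    f - ∑ z ∈ S, single I z ((f : Z → M) z) ∈ (I ^ n • ⊤ : Submodule A (decaying I Z M)) := by
  refine mem_pow_smul_top I hI n _ fun z => ?_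
  simp only [AddSubgroupClass.coe_sub, Submodule.coe_sum, Pi.sub_apply, Finset.sum_apply, coe_single,
    Finset.sum_pi_single]
  split_ifs with h
  · simp
  · simpa using hS z h

section Congr

variable {M' : Type w'} [AddCommGroup M'] [Module A M']

theorem map_mem (φ : M →ₗ[A] M') {f : Z → M} (hf : f ∈ decaying I Z M) : (fun z => φ (f z)) ∈ decaying I Z M' :=
  fun n => (hf n).subset fun z hz h => hz (by
    have := Submodule.mem_map_of_mem (f := φ) h
    rw [Submodule.map_smul''] at this
    exact Submodule.smul_mono le_rfl le_top this)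

/-- Functoriality of decaying functions. -/
noncomputable def mapL (φ : M →ₗ[A] M') : decaying I Z M →ₗ[A] decaying I Z M' :=
  ((φ.compLeft Z).comp (decaying I Z M).subtype).codRestrict _ fun f => map_mem I φ f.2

@[simp] theorem mapL_apply (φ : M →ₗ[A] M') (f : decaying I Z M) (z : Z) :
    (mapL I φ f : Z → M') z = φ ((f : Z → M) z) := rfl

/-- Transport along an isomorphism. -/
noncomputable def congr (e : M ≃ₗ[A] M') : decaying I Z M ≃ₗ[A] decaying I Z M' :=
  LinearEquiv.ofLinear (mapL I e.toLinearMap) (mapL I e.symm.toLinearMap)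
    (LinearMap.ext fun f => Subtype.ext (funext fun z => e.apply_symm_apply _))
    (LinearMap.ext fun f => Subtype.ext (funext fun z => e.symm_apply_apply _))

end Congr

section Completion

theorem finsupp_mem_smul_top (J : Ideal A) (x : Z →₀ M) :
    x ∈ (J • ⊤ : Submodule A (Z →₀ M)) ↔ ∀ z, x z ∈ (J • ⊤ : Submodule A M) := by
  classical
  constructor
  · intro h z
    have := Submodule.mem_map_of_mem (f := Finsupp.lapply (R := A) z) h
    rw [Submodule.map_smul''] at this
    exact Submodule.smul_mono le_rfl le_top this
  · intro h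
    rw [← x.sum_single]
    refine Submodule.sum_mem _ fun z _ => ?_
    have := Submodule.mem_map_of_mem (f := Finsupp.lsingle (R := A) z) (h z)
    rw [Submodule.map_smul''] at this
    exact Submodule.smul_mono le_rfl le_top this

/-- In a complete completion, the kernels of the projections are the powers of the ideal. -/
theorem mem_pow_smul_top_of_val_eq_zero [IsAdicComplete I (AdicCompletion I M)] (n : ℕ) (c : AdicCompletion I M)
    (hc : c.val n = 0) : c ∈ (I ^ n • ⊤ : Submodule A (AdicCompletion I M)) := by
  let P := AdicCompletion I M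
  have step : ∀ j (d : P), d.val j = 0 → ∃ d' : P, d'.val (j + 1) = 0 ∧ d' - d ∈ (I ^ j • ⊤ : Submodule A P) := by
    intro j d hd
    obtain ⟨m, hm⟩ := Submodule.mkQ_surjective _ (d.val (j + 1))
    refine ⟨d - AdicCompletion.of I M m, ?_, ?_⟩
    · rw [AdicCompletion.val_sub_apply, ← hm]
      exact sub_self _
    · rw [sub_sub_cancel_left, neg_mem_iff]
      have hmj : m ∈ (I ^ j • ⊤ : Submodule A M) := by
        rw [← Submodule.Quotient.mk_eq_zero]
        have := congrArg (AdicCompletion.transitionMap I M (Nat.le_succ j)) hm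
        rw [show AdicCompletion.transitionMap I M (Nat.le_succ j) (d.val (j + 1)) = d.val j from d.2 _] at this
        exact this.trans hd
      have := Submodule.mem_map_of_mem (f := AdicCompletion.of I M) hmj
      rw [Submodule.map_smul''] at this
      exact Submodule.smul_mono le_rfl le_top this
  choose! s hs hs' using step
  let seq : ℕ → P := fun k => Nat.rec c (fun i d => s (n + i) d) k
  have hseq : ∀ k, (seq k).val (n + k) = 0 := fun k => by
    induction k with
    | zero => exact hc
    | succ k ih => exact hs (n + k) (seq k) ih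
  have hdiff : ∀ k, seq (k + 1) - seq k ∈ (I ^ (n + k) • ⊤ : Submodule A P) := fun k => hs' (n + k) (seq k) (hseq k)
  have hall : ∀ a b, a ≤ b → seq b - seq a ∈ (I ^ (n + a) • ⊤ : Submodule A P) := fun a b hab => by
    induction hab with
    | refl => simp
    | step h ih =>
      have := add_mem (pow_anti I (Nat.add_le_add_left h n) (hdiff _)) ih
      rwa [sub_add_sub_cancel] at this
  obtain ⟨L, hL⟩ := IsPrecomplete.prec (I := I) (M := P) inferInstance (f := seq) fun {a b} hab => by
    rw [SModEq.sub_mem, ← neg_sub]
    exact neg_mem (pow_anti I (Nat.le_add_left a n) (hall a b hab))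
  have hval : ∀ {k : ℕ} {x : P}, x ∈ (I ^ k • ⊤ : Submodule A P) → x.val k = 0 := fun hx =>
    AdicCompletion.pow_smul_top_le_ker_eval (I := I) (M := M) _ hx
  have hL0 : L = 0 := AdicCompletion.ext fun k => by
    have h1 : seq k - L ∈ (I ^ k • ⊤ : Submodule A P) := SModEq.sub_mem.1 (hL k)
    have h2 := hval h1
    rw [AdicCompletion.val_sub_apply] at h2
    have h3 : (seq k).val k = 0 := by
      rw [← (seq k).2 (Nat.le_add_left k n), hseq k, map_zero]
    rw [h3, zero_sub, neg_eq_zero] at h2
    rw [h2, AdicCompletion.val_zero_apply]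
  have h1 := SModEq.sub_mem.1 (hL n)
  rw [hL0, sub_zero] at h1
  have h2 := sub_mem h1 (pow_anti I (Nat.le_add_right n 0) (hall 0 n (Nat.zero_le n)))
  rwa [sub_sub_cancel] at h2

/-- Coordinates of the completion of a free module. -/
noncomputable def coords : AdicCompletion I (Z →₀ M) →ₗ[A] Z → AdicCompletion I M :=
  LinearMap.pi fun z => (AdicCompletion.map I (Finsupp.lapply (M := M) (R := A) z)).restrictScalars A

theorem coords_val (ξ : AdicCompletion I (Z →₀ M)) (z : Z) (n : ℕ) (x : Z →₀ M)
    (hx : Submodule.Quotient.mk x = ξ.val n) : (coords I ξ z).val n = Submodule.Quotient.mk (x z) := by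
  show (AdicCompletion.map I (Finsupp.lapply (M := M) (R := A) z) ξ).val n = _
  rw [AdicCompletion.map_val_apply, ← hx]
  rfl

theorem coords_injective : Function.Injective (coords I (Z := Z) (M := M)) := by
  rw [injective_iff_map_eq_zero]
  intro ξ h
  refine AdicCompletion.ext fun n => ?_
  obtain ⟨x, hx⟩ := Submodule.Quotient.mk_surjective _ (ξ.val n)
  rw [AdicCompletion.val_zero_apply, ← hx, Submodule.Quotient.mk_eq_zero, finsupp_mem_smul_top]
  intro z
  have := coords_val I ξ z n x hx
  rw [congrFun h z] at this
  exact (Submodule.Quotient.mk_eq_zero _).1 this.symm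

theorem range_coords [IsAdicComplete I (AdicCompletion I M)] :
    LinearMap.range (coords I (Z := Z) (M := M)) = decaying I Z (AdicCompletion I M) := by
  classical
  refine le_antisymm ?_ fun w hw => ?_
  · rintro _ ⟨ξ, rfl⟩ n
    obtain ⟨x, hx⟩ := Submodule.Quotient.mk_surjective _ (ξ.val n)
    refine x.support.finite_toSet.subset fun z hz => ?_
    by_contra hzs
    refine hz (mem_pow_smul_top_of_val_eq_zero I n _ ?_)
    rw [coords_val I ξ z n x hx, Finsupp.notMem_support_iff.1 hzs, Submodule.Quotient.mk_zero]
  · have hfin : ∀ n, {z | (w z).val n ≠ 0}.Finite := fun n => (hw n).subset fun z hz h =>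
      hz (AdicCompletion.pow_smul_top_le_ker_eval (I := I) (M := M) n h)
    choose rep hrep using fun (n : ℕ) (z : Z) => Submodule.Quotient.mk_surjective _ ((w z).val n)
    let s : ℕ → (Z →₀ M) := fun n => ∑ z ∈ (hfin n).toFinset, Finsupp.single z (rep n z)
    have hs : ∀ n z, Submodule.Quotient.mk (s n z) = (w z).val n := fun n z => by
      simp only [s, Finsupp.finsetSum_apply, Finsupp.single_apply, Finset.sum_ite_eq']
      split_ifs with h
      · exact hrep n z
      · rw [Submodule.Quotient.mk_zero]
        exact (not_not.1 fun h' => h ((hfin n).mem_toFinset.2 h')).symm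
    let ξ : AdicCompletion I (Z →₀ M) := ⟨fun n => Submodule.Quotient.mk (s n), fun {m n} hmn => by
      show Submodule.Quotient.mk (s n) = Submodule.Quotient.mk (s m)
      rw [Submodule.Quotient.eq, finsupp_mem_smul_top]
      intro z
      rw [Finsupp.sub_apply, ← Submodule.Quotient.eq, hs m z]
      have := (w z).2 hmn
      rw [← hs n z] at this
      exact this⟩
    refine ⟨ξ, funext fun z => AdicCompletion.ext fun n => ?_⟩
    rw [coords_val I ξ z n (s n) rfl, hs]

/-- The completion of a free module is the module of decaying functions. -/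
noncomputable def completionEquiv [IsAdicComplete I (AdicCompletion I M)] :
    AdicCompletion I (Z →₀ M) ≃ₗ[A] decaying I Z (AdicCompletion I M) :=
  (LinearEquiv.ofInjective (coords I) (coords_injective I)).trans (LinearEquiv.ofEq _ _ (range_coords I))

theorem completionEquiv_apply [IsAdicComplete I (AdicCompletion I M)] (ξ : AdicCompletion I (Z →₀ M)) :
    (completionEquiv I ξ : Z → AdicCompletion I M) = coords I ξ := rfl

theorem completionEquiv_of_single [DecidableEq Z] [IsAdicComplete I (AdicCompletion I M)] (z : Z) (m : M) :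
    completionEquiv I (AdicCompletion.of I (Z →₀ M) (Finsupp.single z m)) =
      single I z (AdicCompletion.of I M m) := by
  refine Subtype.ext (funext fun y => ?_)
  rw [completionEquiv_apply, coe_single]
  show AdicCompletion.map I (Finsupp.lapply (R := A) y) (AdicCompletion.of I _ _) = _
  rw [AdicCompletion.map_of, Pi.single_apply]
  by_cases h : y = z
  · subst h; simp
  · simp [h, Ne.symm h]

end Completion

end DecayLib
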