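import Groth.Agent.FlatCrit.Basic
import Groth.Agent.CompleteLib.Basic
import Mathlib.RingTheory.Flat.EquationalCriterion
import Mathlib.RingTheory.AdicCompletion.Basic
import Mathlib.RingTheory.Filtration
import Mathlib.LinearAlgebra.TensorProduct.Quotient

/-! Complete modules with trivial relations modulo all powers are flat. -/

set_option autoImplicit false

universe u w

open TensorProduct

namespace DecayLib

variable {A : Type u} [CommRing A] {M : Type w} [AddCommGroup M] [Module A M]

/-- The action of a family of column vectors on tuples. -/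
def app {r b : ℕ} (c : Fin r → Fin b → A) (v : Fin r → M) (j : Fin b) : M := ∑ i, c i j • v i

theorem smul_top_pi {r : ℕ} (J : Ideal A) (v : Fin r → M) :
    v ∈ (J • ⊤ : Submodule A (Fin r → M)) ↔ ∀ i, v i ∈ (J • ⊤ : Submodule A M) := by
  classical
  constructor
  · intro h i
    have := Submodule.mem_map_of_mem (f := LinearMap.proj (R := A) (φ := fun _ : Fin r => M) i) h
    rw [Submodule.map_smul''] at this
    exact Submodule.smul_mono le_rfl le_top this
  · intro h
    rw [← Finset.univ_sum_single v]
    refine Submodule.sum_mem _ fun i _ => ?_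
    have := Submodule.mem_map_of_mem (f := LinearMap.single A (fun _ : Fin r => M) i) (h i)
    rw [Submodule.map_smul''] at this
    exact Submodule.smul_mono le_rfl le_top this

/-- Column relations modulo an ideal. -/
def relMod {r b : ℕ} (c : Fin r → Fin b → A) (J : Ideal A) : Submodule A (Fin r → A) :=
  Submodule.comap (Fintype.linearCombination A c) (J • ⊤)

variable (M) in
/-- Tuples coming from relations modulo an ideal. -/
def relSpan {r b : ℕ} (c : Fin r → Fin b → A) (J : Ideal A) : Submodule A (Fin r → M) :=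
  Submodule.span A {x | ∃ w ∈ relMod c J, ∃ p : M, x = fun i => w i • p}

/-- Relations modulo a power are trivial, under the hypotheses of the local criterion. -/
theorem mem_relSpan_of_injective {I : Ideal A}
    (h1 : Function.Injective (LinearMap.lTensor M I.subtype))
    (h2 : Module.Flat (A ⧸ I) ((A ⧸ I) ⊗[A] M)) (m : ℕ) {r b : ℕ} (c : Fin r → Fin b → A) (v : Fin r → M)
    (hv : ∀ j, app c v j ∈ (I ^ m • ⊤ : Submodule A M)) : v ∈ relSpan M c (I ^ m) := by
  classical
  let P : Submodule A (Fin b → A) := I ^ m • ⊤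
  let g : ((Fin r → A) × P) →ₗ[A] (Fin b → A) := (Fintype.linearCombination A c).coprod P.subtype
  let K := LinearMap.range g
  have hPK : P ≤ K := fun x hx => ⟨(0, ⟨x, hx⟩), by simp [g]⟩
  have hinj := FlatCrit.injective_of_pow_smul_le h1 h2 m K hPK
  let Φ : M ⊗[A] ((Fin r → A) × P) →ₗ[A] (Fin r → M) :=
    LinearMap.pi fun i => TensorProduct.lift ((LinearMap.lsmul A M).flip.compl₂
      ((LinearMap.proj i).comp (LinearMap.fst A (Fin r → A) P)))
  have hΦ : ∀ (p : M) (q : (Fin r → A) × P), Φ (p ⊗ₜ[A] q) = fun i => q.1 i • p := fun p q => by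
    funext i; simp [Φ]
  let X : M ⊗[A] ((Fin r → A) × P) := ∑ i, v i ⊗ₜ[A] ((Pi.single i 1 : Fin r → A), (0 : P))
  have hΦX : Φ X = v := by
    funext i
    simp only [X, map_sum, hΦ, Finset.sum_apply, Pi.single_apply, ite_smul, one_smul, zero_smul,
      Finset.sum_ite_eq, Finset.mem_univ, if_true]
  have hgX : LinearMap.lTensor M g X = ∑ j, app c v j ⊗ₜ[A] (Pi.single j 1 : Fin b → A) := by
    simp only [X, map_sum, LinearMap.lTensor_tmul, app, TensorProduct.sum_tmul]
    rw [Finset.sum_comm]
    refine Finset.sum_congr rfl fun i _ => ?_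
    simp only [TensorProduct.smul_tmul, ← TensorProduct.tmul_sum]
    congr 1
    simp only [g, LinearMap.coprod_apply, map_zero, add_zero, Fintype.linearCombination_apply_single, one_smul]
    exact pi_eq_sum_univ' (c i)
  have hsmall : ∀ p ∈ (I ^ m • ⊤ : Submodule A M), ∀ j : Fin b,
      p ⊗ₜ[A] (Pi.single j 1 : Fin b → A) ∈ LinearMap.range (LinearMap.lTensor M P.subtype) := by
    intro p hp j
    refine Submodule.smul_induction_on hp (fun a ha q _ => ?_) (fun x y hx hy => ?_)
    · rw [TensorProduct.smul_tmul]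
      exact ⟨q ⊗ₜ ⟨a • (Pi.single j 1 : Fin b → A), Submodule.smul_mem_smul ha Submodule.mem_top⟩, rfl⟩
    · rw [TensorProduct.add_tmul]
      exact add_mem hx hy
  obtain ⟨q, hq⟩ : LinearMap.lTensor M g X ∈ LinearMap.range (LinearMap.lTensor M P.subtype) := by
    rw [hgX]
    exact Submodule.sum_mem _ fun j _ => hsmall _ (hv j) j
  let X' := X - LinearMap.lTensor M (LinearMap.inr A (Fin r → A) P) q
  have hgX' : LinearMap.lTensor M g X' = 0 := by
    rw [map_sub, ← LinearMap.comp_apply (LinearMap.lTensor M g) _ q, ← LinearMap.lTensor_comp,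
      LinearMap.coprod_inr, hq, sub_self]
  have hX' : LinearMap.lTensor M g.rangeRestrict X' = 0 := hinj (by
    rw [map_zero, ← LinearMap.comp_apply, ← LinearMap.lTensor_comp]
    exact hgX')
  have hex : Function.Exact (LinearMap.ker g).subtype g.rangeRestrict := by
    rw [LinearMap.exact_iff, LinearMap.ker_rangeRestrict, Submodule.range_subtype]
  obtain ⟨u, hu⟩ := ((lTensor_exact M (M := (LinearMap.ker g : Submodule A _)) (f := (LinearMap.ker g).subtype) hex g.surjective_rangeRestrict) X').1 hX'
  have hinr : ∀ q, Φ (LinearMap.lTensor M (LinearMap.inr A (Fin r → A) P) q) = 0 := fun q => by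
    induction q using TensorProduct.induction_on with
    | zero => simp
    | add x y hx hy => rw [map_add, map_add, hx, hy, add_zero]
    | tmul p y => funext i; simp [hΦ]
  have hker : ∀ u, Φ (LinearMap.lTensor M (LinearMap.ker g).subtype u) ∈ relSpan M c (I ^ m) := fun u => by
    induction u using TensorProduct.induction_on with
    | zero => simp
    | add x y hx hy => rw [map_add, map_add]; exact add_mem hx hy
    | tmul p y =>
      rw [LinearMap.lTensor_tmul, hΦ]
      refine Submodule.subset_span ⟨y.1.1, ?_, p, rfl⟩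
      show Fintype.linearCombination A c y.1.1 ∈ P
      have h : Fintype.linearCombination A c y.1.1 + (y.1.2 : Fin b → A) = 0 := y.2
      rw [eq_neg_of_add_eq_zero_left h]
      exact neg_mem y.1.2.2
  have := hker u
  rwa [hu, map_sub, hinr, sub_zero, hΦX] at this

section Complete

variable [IsNoetherianRing A] (K : Ideal A)

theorem exists_lift_mod {r b s : ℕ} (c : Fin r → Fin b → A) (k : Fin s → Fin r → A)
    (hk : Submodule.span A (Set.range k) = LinearMap.ker (Fintype.linearCombination A c))
    (H : ∀ (m : ℕ) (v : Fin r → M), (∀ j, app c v j ∈ (K ^ m • ⊤ : Submodule A M)) →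
      v ∈ relSpan M c (K ^ m) ⊔ K ^ m • ⊤) :
    ∃ e : ℕ, ∀ (n : ℕ) (v : Fin r → M), (∀ j, app c v j ∈ (K ^ (n + e) • ⊤ : Submodule A M)) →
      ∃ η : Fin s → M, ∀ i, v i - app k η i ∈ (K ^ n • ⊤ : Submodule A M) := by
  classical
  obtain ⟨e, he⟩ := Ideal.exists_pow_inf_eq_pow_smul K (LinearMap.range (Fintype.linearCombination A c))
  refine ⟨e, fun n v hv => ?_⟩
  let α : (Fin s → M) →ₗ[A] (Fin r → M) :=
    { toFun := fun η => app k η
      map_add' := fun x y => funext fun i => by simp [app, Finset.sum_add_distrib]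
      map_smul' := fun t x => funext fun i => by simp [app, Finset.smul_sum, smul_comm (k _ i) t] }
  have hmem : ∀ w ∈ relMod c (K ^ (n + e)), ∀ p : M,
      (fun i => w i • p) ∈ LinearMap.range α ⊔ K ^ n • ⊤ := by
    intro w hw p
    have h1 : Fintype.linearCombination A c w ∈
        (K ^ (n + e) • ⊤ ⊓ LinearMap.range (Fintype.linearCombination A c) : Submodule A (Fin b → A)) :=
      ⟨hw, w, rfl⟩
    rw [he _ (Nat.le_add_left e n), Nat.add_sub_cancel] at h1
    have h2 : Fintype.linearCombination A c w ∈
        (K ^ n • ⊤ : Submodule A (Fin r → A)).map (Fintype.linearCombination A c) := by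
      rw [Submodule.map_smul'', Submodule.map_top]
      exact Submodule.smul_mono le_rfl inf_le_right h1
    obtain ⟨u, hu, huw⟩ := h2
    have h3 : w - u ∈ Submodule.span A (Set.range k) := by
      rw [hk, LinearMap.mem_ker, map_sub, huw, sub_self]
    obtain ⟨t, ht⟩ := (Submodule.mem_span_range_iff_exists_fun A).1 h3
    refine Submodule.mem_sup.2 ⟨α fun j => t j • p, ⟨_, rfl⟩, fun i => u i • p, ?_, funext fun i => ?_⟩
    · rw [smul_top_pi]
      intro i
      exact Submodule.smul_mem_smul (by simpa using (smul_top_pi (K ^ n) u).1 hu i) Submodule.mem_top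
    · have h4 : ∑ j, t j * k j i = w i - u i := by simpa using congrFun ht i
      show (∑ j, k j i • t j • p) + u i • p = w i • p
      simp only [smul_smul, ← Finset.sum_smul, ← add_smul]
      congr 1
      rw [Finset.sum_congr rfl fun j _ => mul_comm (k j i) (t j), h4, sub_add_cancel]
  have hle : relSpan M c (K ^ (n + e)) ⊔ K ^ (n + e) • ⊤ ≤ LinearMap.range α ⊔ K ^ n • ⊤ := by
    refine sup_le (Submodule.span_le.2 ?_) (le_sup_of_le_right
      (Submodule.smul_mono (Ideal.pow_le_pow_right (Nat.le_add_right n e)) le_rfl))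
    rintro _ ⟨w, hw, p, rfl⟩
    exact hmem w hw p
  obtain ⟨_, ⟨η, rfl⟩, y, hy, hxy⟩ := Submodule.mem_sup.1 (hle (H _ v hv))
  refine ⟨η, fun i => ?_⟩
  rw [show v i - app k η i = y i by rw [← hxy]; exact add_sub_cancel_left _ _]
  exact (smul_top_pi _ y).1 hy i

/-- A complete module over a Noetherian ring is flat once relations are trivial modulo all powers. -/
theorem flat_of_forall_mem_relSpan [IsAdicComplete K M]
    (H : ∀ (m r b : ℕ) (c : Fin r → Fin b → A) (v : Fin r → M),
      (∀ j, app c v j ∈ (K ^ m • ⊤ : Submodule A M)) → v ∈ relSpan M c (K ^ m) ⊔ K ^ m • ⊤) :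
    Module.Flat A M := by
  classical
  refine Module.Flat.of_forall_isTrivialRelation fun {l f x} hfx => ?_
  let c : Fin l → Fin 1 → A := fun i _ => f i
  obtain ⟨s, k, hk⟩ := Submodule.fg_iff_exists_fin_generating_family.1
    (IsNoetherian.noetherian (LinearMap.ker (Fintype.linearCombination A c)))
  obtain ⟨q, l', hl'⟩ := Submodule.fg_iff_exists_fin_generating_family.1
    (IsNoetherian.noetherian (LinearMap.ker (Fintype.linearCombination A k)))
  obtain ⟨e₁, he₁⟩ := exists_lift_mod K c k hk fun m => H m _ _ c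
  obtain ⟨e₂, he₂⟩ := exists_lift_mod K k l' hl' fun m => H m _ _ k
  have hx : ∀ n j, app c x j ∈ (K ^ n • ⊤ : Submodule A M) := fun n j => by
    show (∑ i, f i • x i) ∈ _
    rw [hfx]
    exact zero_mem _
  choose η hη using fun n => he₁ (n + e₂) x (hx _)
  have happ : ∀ (p p' : Fin s → M) i, app k (p - p') i = app k p i - app k p' i := fun p p' i => by
    simp [app, smul_sub, Finset.sum_sub_distrib]
  have hstep : ∀ n, ∃ θ : Fin q → M, ∀ j, (η (n + 1) - η n) j - app l' θ j ∈ (K ^ n • ⊤ : Submodule A M) := by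
    intro n
    refine he₂ n _ fun i => ?_
    rw [happ]
    have h1 := sub_mem (hη n i)
      (Submodule.smul_mono (Ideal.pow_le_pow_right (show n + e₂ ≤ n + 1 + e₂ by omega)) le_rfl (hη (n + 1) i))
    rwa [sub_sub_sub_cancel_left] at h1
  choose θ hθ using hstep
  have hkl : ∀ (p : Fin q → M) i, app k (app l' p) i = 0 := fun p i => by
    show ∑ j, k j i • ∑ t, l' t j • p t = 0
    simp only [Finset.smul_sum, smul_smul]
    rw [Finset.sum_comm]
    refine Finset.sum_eq_zero fun t _ => ?_
    rw [← Finset.sum_smul]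
    have h : Fintype.linearCombination A k (l' t) = 0 :=
      LinearMap.mem_ker.1 (hl' ▸ Submodule.subset_span ⟨t, rfl⟩)
    have h2 := congrFun h i
    rw [Fintype.linearCombination_apply, Finset.sum_apply] at h2
    simp only [Pi.smul_apply, smul_eq_mul, Pi.zero_apply] at h2
    rw [Finset.sum_congr rfl fun j _ => mul_comm (k j i) (l' t j), h2, zero_smul]
  let ρ : ℕ → Fin s → M := fun n j => η n j - ∑ i ∈ Finset.range n, app l' (θ i) j
  have hρ : ∀ j, ∃ L : M, ∀ n, ρ n j - L ∈ (K ^ n • ⊤ : Submodule A M) := fun j => by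
    suffices h : ∃ L : M, ∀ n, L - ρ n j ∈ (K ^ n • ⊤ : Submodule A M) by
      obtain ⟨L, hL⟩ := h
      exact ⟨L, fun n => by rw [← neg_sub]; exact neg_mem (hL n)⟩
    refine CompleteLib.exists_limit (fun n => ρ n j) fun n => ?_
    show ρ (n + 1) j - ρ n j ∈ _
    have : ρ (n + 1) j - ρ n j = (η (n + 1) - η n) j - app l' (θ n) j := by
      simp only [ρ, Finset.sum_range_succ, Pi.sub_apply]; abel
    rw [this]
    exact hθ n j
  choose L hL using hρ
  have hxL : ∀ i, x i = app k L i := fun i => sub_eq_zero.1 (CompleteLib.eq_zero_of_forall_mem (I := K) fun n => by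
    have h1 : app k (ρ n) i = app k (η n) i := by
      rw [show ρ n = η n - ∑ t ∈ Finset.range n, app l' (θ t) from funext fun j => by
        simp [ρ, Finset.sum_apply], happ]
      have : app k (∑ t ∈ Finset.range n, app l' (θ t)) i = 0 := by
        show ∑ j, k j i • (∑ t ∈ Finset.range n, app l' (θ t)) j = 0
        simp only [Finset.sum_apply, Finset.smul_sum]
        rw [Finset.sum_comm]
        exact Finset.sum_eq_zero fun t _ => hkl (θ t) i
      rw [this, sub_zero]
    have h2 := Submodule.smul_mono (Ideal.pow_le_pow_right (Nat.le_add_right n e₂)) le_rfl (hη n i)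
    rw [← h1] at h2
    have h3 : app k (ρ n) i - app k L i ∈ (K ^ n • ⊤ : Submodule A M) := by
      rw [← happ]
      exact Submodule.sum_mem _ fun j _ => Submodule.smul_mem _ _ (hL j n)
    simpa using add_mem h2 h3)
  refine ⟨s, fun i j => k j i, L, hxL, fun j => ?_⟩
  have h : Fintype.linearCombination A c (k j) = 0 :=
    LinearMap.mem_ker.1 (hk ▸ Submodule.subset_span ⟨j, rfl⟩)
  have h2 := congrFun h 0
  rw [Fintype.linearCombination_apply, Finset.sum_apply] at h2
  simpa [c, mul_comm] using h2

end Complete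

end DecayLib
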