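import Groth.Agent.DecayLib.Basic
import Groth.Agent.CompleteLib.Basic
import Mathlib.RingTheory.Filtration
import Mathlib.RingTheory.Flat.Tensor
import Mathlib.LinearAlgebra.TensorProduct.Pi

/-! Decaying functions over complete Noetherian rings. -/

set_option autoImplicit false

universe u v w w'

open W4c5adicflatcompl TensorProduct

namespace DecayLib

variable {A : Type u} [CommRing A] [IsNoetherianRing A] (I : Ideal A)

theorem submodule_decaying_iff {Z : Type v} {M : Type w} [AddCommGroup M] [Module A M] [Module.Finite A M]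
    (N : Submodule A M) (f : Z → N) : f ∈ decaying I Z N ↔ (fun z => (f z : M)) ∈ decaying I Z M := by
  refine ⟨fun h => map_mem I N.subtype h, fun h n => ?_⟩
  obtain ⟨k, hk⟩ := Ideal.exists_pow_inf_eq_pow_smul I N
  refine (h (n + k)).subset fun z hz hzM => hz ?_
  have h1 : (f z : M) ∈ (I ^ (n + k) • ⊤ ⊓ N : Submodule A M) := ⟨hzM, (f z).2⟩
  rw [hk _ (Nat.le_add_left k n), Nat.add_sub_cancel] at h1
  have h2 : (f z : M) ∈ (I ^ n • ⊤ : Submodule A N).map N.subtype := by
    rw [Submodule.map_smul'', Submodule.map_subtype_top]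
    exact Submodule.smul_mono le_rfl inf_le_right h1
  obtain ⟨y, hy, hye⟩ := h2
  rwa [← Subtype.ext hye]

theorem exists_lift [IsAdicComplete I A] {Z : Type v} {M : Type w} {M'' : Type w'} [AddCommGroup M] [Module A M]
    [Module.Finite A M] [AddCommGroup M''] [Module A M''] (φ : M →ₗ[A] M'') (hφ : Function.Surjective φ)
    (g : Z → M'') (hg : g ∈ decaying I Z M'') : ∃ f : Z → M, f ∈ decaying I Z M ∧ ∀ z, φ (f z) = g z := by
  classical
  have : Module.Finite A M'' := Module.Finite.of_surjective φ hφ
  have : IsHausdorff I M'' := IsHausdorff.of_le_jacobson I M'' (IsAdicComplete.le_jacobson_bot I)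
  have key : ∀ z, ∃ y, φ y = g z ∧
      ∀ m, g z ∈ (I ^ m • ⊤ : Submodule A M'') → y ∈ (I ^ m • ⊤ : Submodule A M) := by
    intro z
    by_cases h0 : g z = 0
    · exact ⟨0, by simp [h0], fun m _ => zero_mem _⟩
    · have hex : ∃ m, g z ∉ (I ^ m • ⊤ : Submodule A M'') := by
        by_contra! h
        exact h0 (eq_zero_of_forall_mem I h)
      have hm : Nat.find hex ≠ 0 := fun e => Nat.find_spec hex (by simp [e])
      have hmem : g z ∈ (I ^ (Nat.find hex - 1) • ⊤ : Submodule A M'') :=
        not_not.1 (Nat.find_min hex (Nat.sub_lt (Nat.pos_of_ne_zero hm) one_pos))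
      have hmem' : g z ∈ (I ^ (Nat.find hex - 1) • ⊤ : Submodule A M).map φ := by
        rw [Submodule.map_smul'', Submodule.map_top, LinearMap.range_eq_top.2 hφ]
        exact hmem
      obtain ⟨y, hy, hye⟩ := hmem'
      refine ⟨y, hye, fun m hgm => pow_anti I ?_ hy⟩
      by_contra hlt
      exact Nat.find_spec hex (pow_anti I (by omega) hgm)
  choose f hf hfm using key
  exact ⟨f, fun n => (hg n).subset fun z hz h => hz (hfm z n h), hf⟩

variable (Z : Type v) (M : Type w) [AddCommGroup M] [Module A M]

/-- Evaluation of tensors with decaying functions. -/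
noncomputable def Psi : M ⊗[A] decaying I Z A →ₗ[A] (Z → M) :=
  (TensorProduct.piScalarRightHom A A M Z) ∘ₗ ((decaying I Z A).subtype.lTensor M)

omit [IsNoetherianRing A] in
variable {I Z M} in
@[simp] theorem Psi_tmul (m : M) (f : decaying I Z A) (z : Z) : Psi I Z M (m ⊗ₜ f) z = (f : Z → A) z • m := by
  simp [Psi]

omit [IsNoetherianRing A] in
theorem Psi_natural {M' : Type w'} [AddCommGroup M'] [Module A M'] (φ : M →ₗ[A] M') (t : M ⊗[A] decaying I Z A)
    (z : Z) : Psi I Z M' (φ.rTensor _ t) z = φ (Psi I Z M t z) := by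
  induction t using TensorProduct.induction_on with
  | zero => simp
  | add a b ha hb => simp only [map_add, Pi.add_apply, ha, hb]
  | tmul m f => simp

omit [IsNoetherianRing A] in
theorem Psi_mem (t : M ⊗[A] decaying I Z A) : Psi I Z M t ∈ decaying I Z M := by
  induction t using TensorProduct.induction_on with
  | zero => simp
  | add a b ha hb => rw [map_add]; exact add_mem ha hb
  | tmul m f =>
    intro n
    refine (f.2 n).subset fun z hz h => hz ?_
    rw [smul_eq_mul, Ideal.mul_top] at h
    rw [Psi_tmul]
    exact Submodule.smul_mem_smul h Submodule.mem_top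

variable [IsAdicComplete I A]

theorem Psi_range [Module.Finite A M] : LinearMap.range (Psi I Z M) = decaying I Z M := by
  classical
  refine le_antisymm (by rintro _ ⟨t, rfl⟩; exact Psi_mem I Z M t) fun g hg => ?_
  obtain ⟨b, π, hπ⟩ := Module.Finite.exists_fin' A M
  obtain ⟨f, hf, hfg⟩ := exists_lift I π hπ g hg
  let F : Fin b → decaying I Z A := fun i =>
    ⟨fun z => f z i, map_mem I (LinearMap.proj i) hf⟩
  refine ⟨∑ i, π (Pi.single i 1) ⊗ₜ F i, funext fun z => ?_⟩
  rw [map_sum, Finset.sum_apply]
  simp only [Psi_tmul, F]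
  simp only [← map_smul, ← map_sum]
  rw [← pi_eq_sum_univ' (f z)]
  exact hfg z

theorem Psi_injective [Module.Finite A M] : Function.Injective (Psi I Z M) := by
  classical
  obtain ⟨b, π, hπ⟩ := Module.Finite.exists_fin' A M
  obtain ⟨a, R, hR⟩ := Module.Finite.exists_fin' A (LinearMap.ker π)
  rw [injective_iff_map_eq_zero]
  intro t ht
  obtain ⟨T, rfl⟩ := LinearMap.rTensor_surjective (decaying I Z A) hπ t
  let v : Fin b → decaying I Z A := TensorProduct.piScalarRight A A (decaying I Z A) (Fin b) (TensorProduct.comm A _ _ T)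
  have hT : T = ∑ i, Pi.single i (1 : A) ⊗ₜ[A] v i := by
    clear ht
    simp only [v]
    induction T using TensorProduct.induction_on with
    | zero => simp
    | add x y hx hy =>
      simp only [map_add, Pi.add_apply, TensorProduct.tmul_add, Finset.sum_add_distrib, ← hx, ← hy]
    | tmul r f =>
      simp only [TensorProduct.comm_tmul, TensorProduct.piScalarRight_apply, TensorProduct.piScalarRightHom_tmul]
      simp only [TensorProduct.tmul_smul, TensorProduct.smul_tmul', ← TensorProduct.sum_tmul]
      rw [← pi_eq_sum_univ' r]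
  let w : Z → (Fin b → A) := fun z i => (v i : Z → A) z
  have hw : ∀ z, w z ∈ LinearMap.ker π := fun z => by
    have h := congrFun ht z
    rw [Psi_natural, hT, map_sum, Finset.sum_apply] at h
    rw [LinearMap.mem_ker]
    simp only [Psi_tmul] at h
    rw [← pi_eq_sum_univ' (fun i => (v i : Z → A) z)] at h
    exact h
  have hwd : w ∈ decaying I Z (Fin b → A) := fun n => by
    refine ((Set.finite_iUnion fun i => (v i).2 n)).subset fun z hz => ?_
    by_contra hz'
    simp only [Set.mem_iUnion, not_exists, Set.mem_ofPred_eq, not_not] at hz'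
    refine hz ?_
    rw [pi_eq_sum_univ' (w z)]
    refine Submodule.sum_mem _ fun i _ => ?_
    have h1 := hz' i
    rw [smul_eq_mul, Ideal.mul_top] at h1
    exact Submodule.smul_mem_smul h1 Submodule.mem_top
  have hwk : (fun z => (⟨w z, hw z⟩ : LinearMap.ker π)) ∈ decaying I Z (LinearMap.ker π) :=
    (submodule_decaying_iff I (LinearMap.ker π) _).2 hwd
  obtain ⟨u, hu, huw⟩ := exists_lift I R hR _ hwk
  let U : Fin a → decaying I Z A := fun j =>
    ⟨fun z => u z j, map_mem I (LinearMap.proj j) hu⟩
  have hvU : ∀ i, v i = ∑ j, (R (Pi.single j 1) : Fin b → A) i • U j := fun i => Subtype.ext (funext fun z => by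
    have h1 := congrArg (fun q : LinearMap.ker π => (q : Fin b → A) i) (huw z)
    have h2 : ((R (u z) : LinearMap.ker π) : Fin b → A) i = (v i : Z → A) z := h1
    rw [pi_eq_sum_univ' (u z)] at h2
    rw [← h2]
    simp [U, mul_comm])
  rw [hT, map_sum]
  simp only [LinearMap.rTensor_tmul, hvU, TensorProduct.tmul_sum, TensorProduct.tmul_smul, TensorProduct.smul_tmul',
    map_sum]
  rw [Finset.sum_comm]
  refine Finset.sum_eq_zero fun j _ => ?_
  rw [← TensorProduct.sum_tmul]
  simp only [← map_smul, ← map_sum]
  rw [← pi_eq_sum_univ' (R (Pi.single j 1) : Fin b → A), (R (Pi.single j 1)).2, TensorProduct.zero_tmul]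

theorem flat_decaying : Module.Flat A (decaying I Z A) := by
  refine Module.Flat.iff_lTensor_injective.2 fun a _ => ?_
  have hinj := Psi_injective I Z a
  intro s t hst
  refine (TensorProduct.comm A _ _).injective (hinj (funext fun z => Subtype.ext ?_))
  have hc : ∀ r, (Submodule.subtype a).rTensor (decaying I Z A) (TensorProduct.comm A _ _ r) =
      TensorProduct.comm A _ _ ((Submodule.subtype a).lTensor (decaying I Z A) r) := fun r => by
    induction r using TensorProduct.induction_on with
    | zero => simp
    | add x y hx hy => simp only [map_add, hx, hy]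
    | tmul x y => simp
  have hs := Psi_natural I Z a (Submodule.subtype a) (TensorProduct.comm A _ _ s) z
  have ht := Psi_natural I Z a (Submodule.subtype a) (TensorProduct.comm A _ _ t) z
  rw [hc, hst, ← hc] at hs
  exact hs.symm.trans ht

end DecayLib
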