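import Groth.Agent.DecayLib.Free
import Groth.Agent.DecayLib.Noetherian
import Mathlib.RingTheory.Flat.Basic
import Mathlib.RingTheory.LocalRing.MaximalIdeal.Basic
import Mathlib.LinearAlgebra.Basis.VectorSpace

/-! Flat complete modules over complete local rings. -/

set_option autoImplicit false

universe u v w w'

open W4c5adicflatcompl TensorProduct

namespace DecayLib

variable {A : Type u} [CommRing A]

/-- In a flat module, coefficients of a family dual to functionals modulo `P` are detected adically. -/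
theorem coeff_mem_of_flat (P : Ideal A) {M : Type w} [AddCommGroup M] [Module A M] [Module.Flat A M]
    {Z : Type v} [DecidableEq Z] (x : Z → M) (ξ : Z → M →ₗ[A] A ⧸ P)
    (hξ : ∀ z y, ξ z (x y) = if y = z then 1 else 0)
    (c : Z →₀ A) (k : ℕ) (hc : Finsupp.linearCombination A x c ∈ (P ^ k • ⊤ : Submodule A M)) (z : Z) :
    c z ∈ P ^ k := by
  induction k generalizing z with
  | zero => simp
  | succ k ih =>
    have hck : ∀ y, c y ∈ P ^ k := fun y =>
      ih (Submodule.smul_mono (Ideal.pow_le_pow_right k.le_succ) le_rfl hc) y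
    let β : (P ^ k : Ideal A) → (A ⧸ P →ₗ[A] A ⧸ P ^ (k + 1)) := fun a =>
      Submodule.liftQ P (LinearMap.toSpanSingleton A _ (Ideal.Quotient.mk (P ^ (k + 1)) a.1)) (by
        intro r hr
        rw [LinearMap.mem_ker, LinearMap.toSpanSingleton_apply]
        show Submodule.Quotient.mk (r • a.1) = 0
        rw [Submodule.Quotient.mk_eq_zero, pow_succ', smul_eq_mul]
        exact Ideal.mul_mem_mul hr a.2)
    have hβ : ∀ (a : (P ^ k : Ideal A)) (r : A),
        β a (Ideal.Quotient.mk P r) = Ideal.Quotient.mk (P ^ (k + 1)) (r * a.1) := fun a r => rfl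
    let B : (P ^ k : Ideal A) →ₗ[A] (A ⧸ P →ₗ[A] A ⧸ P ^ (k + 1)) :=
      { toFun := β
        map_add' := fun a b => LinearMap.ext fun q => by
          obtain ⟨r, rfl⟩ := Ideal.Quotient.mk_surjective q
          rw [LinearMap.add_apply, hβ, hβ, hβ, ← map_add, Submodule.coe_add, mul_add]
        map_smul' := fun t a => LinearMap.ext fun q => by
          obtain ⟨r, rfl⟩ := Ideal.Quotient.mk_surjective q
          rw [RingHom.id_apply, LinearMap.smul_apply, hβ, hβ]
          show _ = Submodule.Quotient.mk (t • (r * a.1))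
          rw [show t • (r * a.1) = r * (t • a : (P ^ k : Ideal A)).1 by
            simp [mul_left_comm]]
          rfl }
    let G : (P ^ k : Ideal A) ⊗[A] M →ₗ[A] A ⧸ P ^ (k + 1) := TensorProduct.lift (B.compl₂ (ξ z))
    let incl : (P ^ (k + 1) : Ideal A) →ₗ[A] (P ^ k : Ideal A) :=
      Submodule.inclusion (Ideal.pow_le_pow_right k.le_succ)
    let μ : (P ^ k : Ideal A) ⊗[A] M →ₗ[A] M :=
      (TensorProduct.lid A M).toLinearMap ∘ₗ (Submodule.subtype _).rTensor M
    have hμ : Function.Injective μ := (TensorProduct.lid A M).injective.comp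
      (Module.Flat.rTensor_preserves_injective_linearMap _ Subtype.val_injective)
    have hμt : ∀ (a : (P ^ k : Ideal A)) (p : M), μ (a ⊗ₜ[A] p) = a.1 • p := fun a p => by simp [μ]
    have hrange : (P ^ (k + 1) • ⊤ : Submodule A M) ≤ LinearMap.range (μ ∘ₗ incl.rTensor M) := by
      rw [Submodule.smul_le]
      intro a ha p _
      exact ⟨⟨a, ha⟩ ⊗ₜ p, by simp [hμt, incl]⟩
    obtain ⟨s, hs⟩ := hrange hc
    have hGincl : ∀ s, G (incl.rTensor M s) = 0 := by
      intro s
      induction s using TensorProduct.induction_on with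
      | zero => simp
      | add a b ha hb => rw [map_add, map_add, ha, hb, add_zero]
      | tmul a p =>
        simp only [G, LinearMap.rTensor_tmul, TensorProduct.lift.tmul, LinearMap.compl₂_apply]
        obtain ⟨r, hr⟩ := Ideal.Quotient.mk_surjective (ξ z p)
        show β (incl a) (ξ z p) = 0
        rw [← hr, hβ, Ideal.Quotient.eq_zero_iff_mem]
        exact Ideal.mul_mem_left _ r a.2
    have ht : incl.rTensor M s = ∑ y ∈ c.support, (⟨c y, hck y⟩ : (P ^ k : Ideal A)) ⊗ₜ[A] x y := hμ (by
      rw [← LinearMap.comp_apply, hs, map_sum]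
      simp [hμt, Finsupp.linearCombination_apply, Finsupp.sum])
    have h0 := hGincl s
    rw [ht, map_sum] at h0
    simp only [G, TensorProduct.lift.tmul, LinearMap.compl₂_apply, hξ] at h0
    rw [Finset.sum_eq_single z (fun y _ hyz => by rw [if_neg hyz, map_zero]) (fun hz => by
      rw [if_pos rfl]
      show β _ (Ideal.Quotient.mk P 1) = 0
      rw [hβ, one_mul, Ideal.Quotient.eq_zero_iff_mem]
      show c z ∈ P ^ (k + 1)
      rw [Finsupp.notMem_support_iff.1 hz]
      exact zero_mem _), if_pos rfl] at h0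
    change β _ (Ideal.Quotient.mk P 1) = 0 at h0
    rwa [hβ, one_mul, Ideal.Quotient.eq_zero_iff_mem] at h0

theorem sup_pow_eq_top (I : Ideal A) {M : Type w} [AddCommGroup M] [Module A M] {N : Submodule A M}
    (h : N ⊔ I • ⊤ = ⊤) (j : ℕ) : N ⊔ I ^ j • ⊤ = ⊤ := by
  induction j with
  | zero => simp
  | succ j ih =>
    refine eq_top_iff.mpr (ih.symm.le.trans (sup_le le_sup_left ?_))
    conv_lhs => rw [← h]
    rw [Submodule.smul_sup, ← Submodule.mul_smul, ← pow_succ]
    exact sup_le (Submodule.smul_le_right.trans le_sup_left) le_sup_right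

theorem exists_residue_basis (P : Ideal A) [P.IsMaximal] (V : Type w) [AddCommGroup V] [Module A V]
    [Module (A ⧸ P) V] [IsScalarTower A (A ⧸ P) V] :
    ∃ (Z : Type w) (_ : DecidableEq Z) (e : Z → V) (ξ : Z → V →ₗ[A] A ⧸ P),
      (∀ z y, ξ z (e y) = if y = z then 1 else 0) ∧ Submodule.span A (Set.range e) = ⊤ := by
  classical
  let _ := Ideal.Quotient.field P
  let b := Module.Basis.ofVectorSpace (A ⧸ P) V
  refine ⟨_, inferInstance, b, fun z => (b.coord z).restrictScalars A, fun z y => ?_, ?_⟩
  · simp [Finsupp.single_apply]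
  · have h := Submodule.restrictScalars_span A (A ⧸ P) Ideal.Quotient.mk_surjective (Set.range b)
    rw [b.span_eq, Submodule.restrictScalars_top] at h
    exact h.symm

end DecayLib
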