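import Groth.Agent.DecayLib.Basic

/-! Adically convergent sums. -/

set_option autoImplicit false

universe u v w

open W4c5adicflatcompl

namespace DecayLib

variable {A : Type u} [CommRing A] (I : Ideal A) {Z : Type v} {M : Type w} [AddCommGroup M] [Module A M]

/-- `m` is the adic sum of the family `f`. -/
def IsSum (f : Z → M) (m : M) : Prop :=
  ∀ n : ℕ, ∃ S : Finset Z, (∀ z, z ∉ S → f z ∈ (I ^ n • ⊤ : Submodule A M)) ∧
    m - (∑ z ∈ S, f z) ∈ (I ^ n • ⊤ : Submodule A M)

variable {I}

theorem sum_sub_sum_mem {f : Z → M} {n : ℕ} {S T : Finset Z}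
    (hS : ∀ z, z ∉ S → f z ∈ (I ^ n • ⊤ : Submodule A M)) (hST : S ⊆ T) :
    (∑ z ∈ T, f z) - (∑ z ∈ S, f z) ∈ (I ^ n • ⊤ : Submodule A M) := by
  classical
  rw [← Finset.sum_sdiff hST, add_sub_cancel_right]
  exact Submodule.sum_mem _ fun z hz => hS z (Finset.mem_sdiff.1 hz).2

theorem IsSum.sub_sum_mem {f : Z → M} {m : M} (h : IsSum I f m) (n : ℕ) {T : Finset Z}
    (hT : ∀ z, z ∉ T → f z ∈ (I ^ n • ⊤ : Submodule A M)) :
    m - (∑ z ∈ T, f z) ∈ (I ^ n • ⊤ : Submodule A M) := by
  classical
  obtain ⟨S, hS, hm⟩ := h n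
  have h1 := sum_sub_sum_mem hS (Finset.subset_union_left (s₂ := T))
  have h2 := sum_sub_sum_mem hT (Finset.subset_union_right (s₁ := S))
  have := add_mem (sub_mem hm h1) h2
  rwa [sub_sub_sub_cancel_right, sub_add_sub_cancel] at this

theorem IsSum.unique [IsHausdorff I M] {f : Z → M} {m m' : M} (h : IsSum I f m) (h' : IsSum I f m') : m = m' := by
  refine sub_eq_zero.1 (eq_zero_of_forall_mem I fun n => ?_)
  obtain ⟨S, hS, hm⟩ := h n
  have := sub_mem hm (h'.sub_sum_mem n hS)
  rwa [sub_sub_sub_cancel_right] at this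

theorem IsSum.add {f g : Z → M} {m m' : M} (h : IsSum I f m) (h' : IsSum I g m') : IsSum I (f + g) (m + m') := by
  classical
  intro n
  obtain ⟨S, hS, -⟩ := h n
  obtain ⟨T, hT, -⟩ := h' n
  refine ⟨S ∪ T, fun z hz => ?_, ?_⟩
  · rw [Finset.mem_union, not_or] at hz
    exact add_mem (hS z hz.1) (hT z hz.2)
  · have h1 := h.sub_sum_mem n (T := S ∪ T) fun z hz => hS z fun e => hz (Finset.mem_union_left _ e)
    have h2 := h'.sub_sum_mem n (T := S ∪ T) fun z hz => hT z fun e => hz (Finset.mem_union_right _ e)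
    simp only [Pi.add_apply, Finset.sum_add_distrib]
    rw [add_sub_add_comm]
    exact add_mem h1 h2

theorem IsSum.smul {f : Z → M} {m : M} (h : IsSum I f m) (a : A) : IsSum I (a • f) (a • m) := fun n => by
  obtain ⟨S, hS, hm⟩ := h n
  refine ⟨S, fun z hz => Submodule.smul_mem _ a (hS z hz), ?_⟩
  simp only [Pi.smul_apply, ← Finset.smul_sum, ← smul_sub]
  exact Submodule.smul_mem _ a hm

theorem decaying_of_isSum {f : Z → M} {m : M} (h : IsSum I f m) : f ∈ decaying I Z M := fun n => by
  obtain ⟨S, hS, -⟩ := h n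
  exact S.finite_toSet.subset fun z hz => by_contra fun hzS => hz (hS z hzS)

theorem exists_isSum [IsAdicComplete I M] (f : decaying I Z M) : ∃ m, IsSum I (f : Z → M) m := by
  classical
  let T : ℕ → Finset Z := fun n => (Finset.range (n + 1)).biUnion (bigSet I f)
  have hT : ∀ n z, z ∉ T n → (f : Z → M) z ∈ (I ^ n • ⊤ : Submodule A M) := fun n z hz =>
    notMem_bigSet I f n fun h => hz (Finset.mem_biUnion.2 ⟨n, by simp, h⟩)
  have hmono : ∀ {a b}, a ≤ b → T a ⊆ T b := fun hab =>
    Finset.biUnion_subset_biUnion_of_subset_left _ (Finset.range_mono (by omega))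
  obtain ⟨m, hm⟩ := IsPrecomplete.prec (I := I) (M := M) inferInstance (f := fun n => ∑ z ∈ T n, (f : Z → M) z)
    fun {a b} hab => by
      rw [SModEq.sub_mem, ← neg_sub]
      exact neg_mem (sum_sub_sum_mem (hT a) (hmono hab))
  exact ⟨m, fun n => ⟨T n, hT n, by rw [← neg_sub]; exact neg_mem (SModEq.sub_mem.1 (hm n))⟩⟩

variable (I)

theorem smul_family_mem (g : decaying I Z A) (f : Z → M) : (fun z => (g : Z → A) z • f z) ∈ decaying I Z M :=
  fun n => (g.2 n).subset fun z hz h => hz (by
    rw [smul_eq_mul, Ideal.mul_top] at h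
    exact Submodule.smul_mem_smul h Submodule.mem_top)

/-- The adic linear combination of a family. -/
theorem exists_sumMap [IsAdicComplete I M] (f : Z → M) :
    ∃ φ : decaying I Z A →ₗ[A] M, ∀ g : decaying I Z A, IsSum I (fun z => (g : Z → A) z • f z) (φ g) := by
  choose φ hφ using fun g : decaying I Z A => exists_isSum (I := I) ⟨_, smul_family_mem I g f⟩
  refine ⟨{ toFun := φ, map_add' := fun g g' => ?_, map_smul' := fun a g => ?_ }, hφ⟩
  · refine (hφ (g + g')).unique ?_
    have := (hφ g).add (hφ g')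
    convert this using 1
    funext z
    simp [add_smul]
  · rw [RingHom.id_apply]
    refine (hφ (a • g)).unique ?_
    have := (hφ g).smul a
    convert this using 1
    funext z
    simp [mul_smul]

/-- A family generates modulo `I` iff it generates adically. -/
theorem span_sup_eq_top_iff [IsAdicComplete I A] [IsAdicComplete I M] (m : Z → M) :
    Submodule.span A (Set.range m) ⊔ I • ⊤ = ⊤ ↔
      ∀ x : M, ∃ g : Z → A, g ∈ decaying I Z A ∧ IsSum I (fun z => g z • m z) x := by
  classical
  constructor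
  · intro h x
    have step : ∀ k, ∀ r ∈ (I ^ k • ⊤ : Submodule A M), ∃ c : Z →₀ A, (∀ z, c z ∈ I ^ k) ∧
        r - Finsupp.linearCombination A m c ∈ (I ^ (k + 1) • ⊤ : Submodule A M) := by
      intro k r hr
      rw [← h, Submodule.smul_sup, ← Submodule.mul_smul, ← pow_succ, Submodule.mem_sup] at hr
      obtain ⟨s, hs, t, ht, rfl⟩ := hr
      rw [← Finsupp.range_linearCombination, ← Submodule.map_top, ← Submodule.map_smul''] at hs
      obtain ⟨c, hc, rfl⟩ := hs
      refine ⟨c, fun z => ?_, by simpa using ht⟩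
      have := (finsupp_mem_smul_top (I ^ k) c).1 hc z
      rwa [smul_eq_mul, Ideal.mul_top] at this
    choose! c hc hc' using step
    let r : ℕ → M := fun k => Nat.rec x (fun i r => r - Finsupp.linearCombination A m (c i r)) k
    have hr : ∀ k, r k ∈ (I ^ k • ⊤ : Submodule A M) := fun k => by
      induction k with
      | zero => simp
      | succ k ih => exact hc' k (r k) ih
    let P : ℕ → Z →₀ A := fun n => ∑ k ∈ Finset.range n, c k (r k)
    have hP : ∀ a b, a ≤ b → ∀ z, P b z - P a z ∈ I ^ a := fun a b hab z => by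
      simp only [P, Finsupp.finsetSum_apply]
      rw [← Finset.sum_Ico_eq_sub _ hab]
      exact Ideal.sum_mem _ fun k hk => Ideal.pow_le_pow_right (Finset.mem_Ico.1 hk).1 (hc k (r k) (hr k) z)
    have hlim : ∀ z, ∃ g : A, ∀ n, P n z - g ∈ I ^ n := fun z => by
      obtain ⟨g, hg⟩ := IsPrecomplete.prec (I := I) (M := A) inferInstance (f := fun n => P n z) fun {a b} hab => by
        rw [SModEq.sub_mem, smul_eq_mul, Ideal.mul_top, ← neg_sub]
        exact neg_mem (hP a b hab z)
      refine ⟨g, fun n => ?_⟩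
      have := SModEq.sub_mem.1 (hg n)
      rwa [smul_eq_mul, Ideal.mul_top] at this
    choose g hg using hlim
    have hout : ∀ n z, z ∉ (P n).support → g z ∈ I ^ n := fun n z hz => by
      have := hg z n
      rwa [Finsupp.notMem_support_iff.1 hz, zero_sub, neg_mem_iff] at this
    refine ⟨g, fun n => (P n).support.finite_toSet.subset fun z hz => by_contra fun hzs => hz ?_,
      fun n => ⟨(P n).support, fun z hz => Submodule.smul_mem_smul (hout n z hz) Submodule.mem_top, ?_⟩⟩
    · rw [smul_eq_mul, Ideal.mul_top]; exact hout n z hzs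
    · have hx : x = Finsupp.linearCombination A m (P n) + r n := by
        induction n with
        | zero => simp [P, r]
        | succ n ih =>
          rw [show P (n + 1) = P n + c n (r n) from Finset.sum_range_succ _ _, map_add,
            show r (n + 1) = r n - Finsupp.linearCombination A m (c n (r n)) from rfl, add_add_sub_cancel, ← ih]
      rw [hx, Finsupp.linearCombination_apply, Finsupp.sum, add_sub_right_comm, ← Finset.sum_sub_distrib]
      refine add_mem (Submodule.sum_mem _ fun z _ => ?_) (hr n)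
      rw [← sub_smul]
      exact Submodule.smul_mem_smul (hg z n) Submodule.mem_top
  · intro h
    refine eq_top_iff.2 fun x _ => ?_
    obtain ⟨g, -, hx⟩ := h x
    obtain ⟨S, -, hS⟩ := hx 1
    rw [pow_one] at hS
    exact Submodule.mem_sup.2 ⟨_, Submodule.sum_mem _ fun z _ =>
      Submodule.smul_mem _ _ (Submodule.subset_span ⟨z, rfl⟩), _, hS, add_sub_cancel _ _⟩

end DecayLib
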